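import Mathlib
import Cfsg.Agent.S0248
import Cfsg.Agent.Prune
set_option linter.all false
prune_inst 0x7f00000000000000000000000000000000000000000000000000000000000000000000000000000000000000000000000000000000000000000000000000000000000000000000000000000000000000003fffffffffffffffffffffffffffbeffbdffffffff
open scoped Cfsg.Agent.FastGrp

/-!
# Elements of order `2 ^ (m + 1)` in groups containing `SL_l(u)`, `u` odd, `l > 2 ^ (m - 1)` (helper151, for S3629)

* `two_pow_dvd` : `2 ^ (j + 2) ∣ u ^ (2 ^ j) - 1`, `j ≥ 1`;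
* `exists_mat` : a matrix `M` of size `2 ^ (m - 1)` with `M ^ (2 ^ m) = -1`;
* `exists_sl` : `A ∈ SL_l(F)`, `l > 2 ^ (m - 1)`, `A ^ (2 ^ m)` not central, `A ^ (2 ^ (m + 1)) = 1`;
* `exists_quot` : if `SL_l(F)` embeds in `H`, then `H ⧸ center H` has an element of order `2 ^ (m + 1)`;
* `exists_quot_comm` : the same for `commutator H ⧸ center (commutator H)`.
-/

set_option autoImplicit false

namespace Cfsg.Agent.H151.TwoPowElt

open Matrix

theorem two_pow_dvd {u j : ℕ} (hu : Odd u) (hj : 1 ≤ j) : 2 ^ (j + 2) ∣ u ^ (2 ^ j) - 1 := by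
  have hu1 : 1 ≤ u := hu.pos
  induction j, hj using Nat.le_induction with
  | base =>
    obtain ⟨k, rfl⟩ := hu
    have h1 : (2 * k + 1) ^ 2 ^ 1 - 1 = 4 * (k * (k + 1)) := by
      apply Nat.sub_eq_of_eq_add; ring
    rw [h1]
    obtain ⟨t, ht⟩ := (Nat.even_mul_succ_self k).two_dvd
    rw [ht]
    exact ⟨t, by ring⟩
  | succ j hj ih =>
    have h1 : u ^ 2 ^ (j + 1) - 1 = (u ^ 2 ^ j - 1) * (u ^ 2 ^ j + 1) := by
      have h2 : 1 ≤ u ^ 2 ^ j := Nat.one_le_pow _ _ hu1
      obtain ⟨a, ha⟩ : ∃ a, u ^ 2 ^ j = a + 1 := ⟨u ^ 2 ^ j - 1, by omega⟩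
      rw [pow_succ 2 j, pow_mul, ha]
      apply Nat.sub_eq_of_eq_add
      rw [Nat.add_sub_cancel]
      ring
    rw [h1, show j + 1 + 2 = (j + 2) + 1 by ring, pow_succ 2 (j + 2)]
    apply Nat.mul_dvd_mul ih
    have h3 : Odd (u ^ 2 ^ j) := hu.pow
    exact (h3.add_odd odd_one).two_dvd

variable {F : Type*} [Field F]

theorem exists_mat [Finite F] (hF : Odd (Nat.card F)) {m : ℕ} (hm : 2 ≤ m) :
    ∃ M : Matrix (Fin (2 ^ (m - 1))) (Fin (2 ^ (m - 1))) F, M ^ (2 ^ m) = -1 := by
  classical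
  have hN : NeZero (2 ^ (m - 1)) := ⟨by positivity⟩
  obtain ⟨p, hpc⟩ := CharP.exists F
  have hp : Fact p.Prime := ⟨CharP.char_is_prime F p⟩
  let L := FiniteField.Extension F p (2 ^ (m - 1))
  have hL : Nat.card L = Nat.card F ^ (2 ^ (m - 1)) := FiniteField.natCard_extension F p _
  have hrk : Module.finrank F L = 2 ^ (m - 1) := FiniteField.finrank_extension F p _
  have h1 : 2 ^ (m + 1) ∣ Nat.card L - 1 := by
    rw [hL]
    have := two_pow_dvd (j := m - 1) hF (by omega)
    rwa [show m - 1 + 2 = m + 1 by omega] at this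
  have hLu : Nat.card Lˣ = Nat.card L - 1 := Nat.card_units L
  obtain ⟨g, hg⟩ := IsCyclic.exists_generator (α := Lˣ)
  have hgo : orderOf g = Nat.card Lˣ := orderOf_eq_card_of_forall_mem_zpowers hg
  obtain ⟨c, hc⟩ := h1
  have hpos : 0 < Nat.card Lˣ := Nat.card_pos
  -- `ζ = g ^ c`
  have h2 : g ^ (2 ^ (m + 1) * c) = 1 := by
    rw [← hc, ← hLu, ← hgo, pow_orderOf_eq_one]
  have h3 : g ^ (2 ^ m * c) ≠ 1 := by
    intro h
    have h4 := orderOf_dvd_of_pow_eq_one h
    rw [hgo, hLu, hc, pow_succ] at h4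
    have hc0 : 0 < c := by
      rcases Nat.eq_zero_or_pos c with h0 | h0
      · rw [h0, mul_zero] at hc; omega
      · exact h0
    have h5 := Nat.le_of_dvd (by positivity) h4
    have h6 : 0 < 2 ^ m * c := by positivity
    nlinarith
  let z : L := ((g ^ c : Lˣ) : L)
  have hz : z ^ (2 ^ m) = -1 := by
    have h4 : (z ^ (2 ^ m)) * (z ^ (2 ^ m)) = 1 := by
      rw [← pow_add, ← two_mul, ← pow_succ']
      have h5 := congrArg Units.val h2
      rw [Units.val_pow_eq_pow_val, Units.val_one, mul_comm, pow_mul] at h5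
      simpa [z] using h5
    rcases mul_self_eq_one_iff.1 h4 with h5 | h5
    · exfalso
      apply h3
      apply Units.ext
      rw [Units.val_pow_eq_pow_val, Units.val_one, mul_comm, pow_mul]
      simpa [z] using h5
    · exact h5
  have : Module.Finite F L := Module.finite_of_finrank_pos (by rw [hrk]; positivity)
  let b : Module.Basis (Fin (2 ^ (m - 1))) F L := Module.finBasisOfFinrankEq F L hrk
  refine ⟨Algebra.leftMulMatrix b z, ?_⟩
  rw [← map_pow, hz, map_neg, map_one]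

theorem exists_sl_aux (h2 : (2 : F) ≠ 0) {m N k : ℕ} (hN0 : 0 < N) (hN : Even N) (M : Matrix (Fin N) (Fin N) F)
    (hM : M ^ (2 ^ m) = -1) :
    ∃ A : SpecialLinearGroup (Fin (N + (k + 1))) F,
      A ^ (2 ^ m) ∉ Subgroup.center (SpecialLinearGroup (Fin (N + (k + 1))) F) ∧ A ^ (2 ^ (m + 1)) = 1 := by
  classical
  have hdet : (M.det) ^ (2 ^ m) = 1 := by
    rw [← det_pow, hM, det_neg, Fintype.card_fin, hN.neg_one_pow, det_one, mul_one]
  have hd0 : M.det ≠ 0 := by
    intro h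
    rw [h, zero_pow (by positivity)] at hdet
    exact zero_ne_one hdet
  let v : Fin (k + 1) → F := Function.update 1 0 (M.det)⁻¹
  have hv : ∏ i, v i = (M.det)⁻¹ := by
    rw [Finset.prod_update_of_mem (Finset.mem_univ _)]
    simp
  have hvp : v ^ (2 ^ m) = 1 := by
    funext i
    rw [Pi.pow_apply, Pi.one_apply]
    by_cases hi : i = 0
    · rw [hi]; simp only [v, Function.update_self, inv_pow, hdet, inv_one]
    · simp only [v, Function.update_of_ne hi, Pi.one_apply, one_pow]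
  let B : Matrix (Fin N ⊕ Fin (k + 1)) (Fin N ⊕ Fin (k + 1)) F := fromBlocks M 0 0 (diagonal v)
  have hB : B ^ (2 ^ m) = fromBlocks (-1) 0 0 1 := by
    have h : ∀ n : ℕ, B ^ n = fromBlocks (M ^ n) 0 0 (diagonal v ^ n) := by
      intro n
      induction n with
      | zero => rw [pow_zero, pow_zero, pow_zero, fromBlocks_one]
      | succ n ih => rw [pow_succ, ih, fromBlocks_multiply]; simp [pow_succ]
    rw [h, hM, diagonal_pow, hvp, Pi.one_def, diagonal_one]
  have hBdet : B.det = 1 := by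
    rw [det_fromBlocks_zero₂₁, det_diagonal, hv, mul_inv_cancel₀ hd0]
  let e := Matrix.reindexAlgEquiv F F (finSumFinEquiv (m := N) (n := k + 1))
  have he : (e B).det = 1 := by
    rw [← hBdet]
    exact Matrix.det_reindexAlgEquiv F F _ B
  obtain ⟨A, hA1⟩ : ∃ A : SpecialLinearGroup (Fin (N + (k + 1))) F, (A : Matrix _ _ F) = e B := ⟨⟨e B, he⟩, rfl⟩
  have hA : ∀ n : ℕ, ((A ^ n : SpecialLinearGroup (Fin (N + (k + 1))) F) : Matrix _ _ F) = e (B ^ n) := by
    intro n
    refine (Matrix.SpecialLinearGroup.coe_pow A n).trans ?_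
    rw [hA1, map_pow]
  refine ⟨A, ?_, ?_⟩
  · intro hc
    obtain ⟨r, -, hr⟩ := Matrix.SpecialLinearGroup.mem_center_iff.1 hc
    rw [hA, hB] at hr
    have h3 : (Matrix.scalar (Fin N ⊕ Fin (k + 1)) r : Matrix _ _ F) = fromBlocks (-1) 0 0 1 := by
      apply e.injective
      rw [← hr]
      ext i j
      simp [e, Matrix.scalar_apply, Matrix.diagonal_apply]
    have h4 := congrFun (congrFun h3 (Sum.inl ⟨0, hN0⟩)) (Sum.inl ⟨0, hN0⟩)
    have h5 := congrFun (congrFun h3 (Sum.inr 0)) (Sum.inr 0)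
    simp only [Matrix.scalar_apply, Matrix.diagonal_apply_eq, fromBlocks_apply₁₁, fromBlocks_apply₂₂,
      Matrix.neg_apply, Matrix.one_apply_eq] at h4 h5
    apply h2
    linear_combination h4 - h5
  · apply Subtype.ext
    have h6 := hA (2 ^ (m + 1))
    rw [pow_succ 2 m, pow_mul B, hB, sq, fromBlocks_multiply] at h6
    rw [pow_succ 2 m]
    refine h6.trans ?_
    simp [fromBlocks_one]

theorem two_ne_zero' [Finite F] (hF : Odd (Nat.card F)) : (2 : F) ≠ 0 := by
  intro h
  have h3 := (CharP.cast_eq_zero_iff F (ringChar F) 2).1 (by exact_mod_cast h)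
  have h4 : ringChar F ∣ Nat.card F := by
    have := Fintype.ofFinite F
    rw [Nat.card_eq_fintype_card]
    exact (CharP.cast_eq_zero_iff F (ringChar F) _).1 (Nat.cast_card_eq_zero F)
  have h5 : (ringChar F).Prime := CharP.char_is_prime F _
  rw [(Nat.prime_dvd_prime_iff_eq h5 Nat.prime_two).1 h3] at h4
  exact (Nat.not_even_iff_odd.2 hF) (even_iff_two_dvd.2 h4)

theorem exists_sl [Finite F] (hF : Odd (Nat.card F)) {m l : ℕ} (hm : 2 ≤ m) (hl : 2 ^ (m - 1) + 1 ≤ l) :
    ∃ A : SpecialLinearGroup (Fin l) F, A ^ (2 ^ m) ∉ Subgroup.center (SpecialLinearGroup (Fin l) F) ∧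
      A ^ (2 ^ (m + 1)) = 1 := by
  obtain ⟨M, hM⟩ := exists_mat (F := F) hF hm
  obtain ⟨k, rfl⟩ : ∃ k, l = 2 ^ (m - 1) + (k + 1) := ⟨l - (2 ^ (m - 1) + 1), by omega⟩
  exact exists_sl_aux (two_ne_zero' hF) (by positivity) (Nat.even_pow.2 ⟨even_two, by omega⟩) M hM

/-- an injective homomorphism from `SL_l(F)` gives an element of order `2 ^ (m + 1)` modulo the centre -/
theorem exists_quot [Finite F] (hF : Odd (Nat.card F)) {m l : ℕ} (hm : 2 ≤ m) (hl : 2 ^ (m - 1) + 1 ≤ l)
    {H : Type*} [Group H] (φ : SpecialLinearGroup (Fin l) F →* H) (hφ : Function.Injective φ) :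
    ∃ g : H ⧸ Subgroup.center H, orderOf g = 2 ^ (m + 1) := by
  obtain ⟨A, h1, h2⟩ := exists_sl (F := F) hF hm hl
  refine ⟨QuotientGroup.mk (φ A), orderOf_eq_prime_pow ?_ ?_⟩
  · intro h
    apply h1
    rw [← QuotientGroup.mk_pow, QuotientGroup.eq_one_iff, ← map_pow, Subgroup.mem_center_iff] at h
    rw [Subgroup.mem_center_iff]
    intro g
    apply hφ
    rw [map_mul, map_mul]
    exact h (φ g)
  · rw [← QuotientGroup.mk_pow, ← map_pow, h2, map_one, QuotientGroup.mk_one]

theorem sl_perfect {l : ℕ} (hl : 3 ≤ l) : commutator (SpecialLinearGroup (Fin l) F) = ⊤ :=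
  S0248.result l hl

/-- the same for the commutator subgroup -/
theorem exists_quot_comm [Finite F] (hF : Odd (Nat.card F)) {m l : ℕ} (hm : 2 ≤ m) (hl : 2 ^ (m - 1) + 1 ≤ l)
    {H : Type*} [Group H] (φ : SpecialLinearGroup (Fin l) F →* H) (hφ : Function.Injective φ) :
    ∃ g : commutator H ⧸ Subgroup.center (commutator H), orderOf g = 2 ^ (m + 1) := by
  have h3 : 3 ≤ l := by
    have : 2 ^ 1 ≤ 2 ^ (m - 1) := Nat.pow_le_pow_right (by norm_num) (by omega)
    omega
  have h4 : ∀ A, φ A ∈ commutator H := by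
    intro A
    have h5 : A ∈ commutator (SpecialLinearGroup (Fin l) F) := by rw [sl_perfect h3]; trivial
    have h6 : (commutator (SpecialLinearGroup (Fin l) F)).map φ ≤ commutator H := by
      rw [map_commutator_eq]
      exact Subgroup.commutator_mono le_top le_top
    exact h6 (Subgroup.mem_map_of_mem φ h5)
  refine exists_quot hF hm hl (φ.codRestrict _ h4) ?_
  intro A B h
  apply hφ
  exact congrArg Subtype.val h

end Cfsg.Agent.H151.TwoPowElt
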