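import Mathlib
set_option linter.all false

/-! # Element orders in `PSL_n(q)`: general tools (helper151)

* `mk_pow_eq_one_iff`: the power of the image of `A` in `PSL_n(F)` is one iff the power of `A` is scalar.
* `mk_pow_eq_one_of_dvd`: upper bounds by the characteristic polynomial.
* `exists_of_norm_eq_one`: elements of `PSL_n(F)` from elements of norm one of an `F`-algebra of dimension `n`.
-/

set_option autoImplicit false

namespace Cfsg.Agent.H151.Spec

open Matrix Polynomial

theorem mk_pow_eq_one_iff {n : ℕ} {F : Type*} [Field F]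
    (A : Matrix.SpecialLinearGroup (Fin n) F) (N : ℕ) :
    (QuotientGroup.mk A : ProjectiveSpecialLinearGroup (Fin n) F) ^ N = 1 ↔
      ∃ r : F, A.1 ^ N = Matrix.scalar (Fin n) r := by
  rw [← QuotientGroup.mk_pow]
  have h1 : ((QuotientGroup.mk (A ^ N) : ProjectiveSpecialLinearGroup (Fin n) F) = 1) ↔
      A ^ N ∈ Subgroup.center (Matrix.SpecialLinearGroup (Fin n) F) := QuotientGroup.eq_one_iff _
  have hpow : (A ^ N).1 = A.1 ^ N := Matrix.SpecialLinearGroup.coe_pow A N
  rw [h1]
  refine (Matrix.SpecialLinearGroup.mem_center_iff (A := A ^ N)).trans ?_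
  constructor
  · rintro ⟨r, -, h⟩
    exact ⟨r, hpow.symm.trans h.symm⟩
  · rintro ⟨r, h⟩
    refine ⟨r, ?_, (hpow.trans h).symm⟩
    have h2 : (A ^ N).1.det = 1 := (A ^ N).2
    rw [hpow, h] at h2
    simpa using h2

/-- If `charpoly A ∣ X ^ N - r` then `A ^ N` is one in `PSL`. -/
theorem mk_pow_eq_one_of_dvd {n : ℕ} {F : Type*} [Field F]
    (A : Matrix.SpecialLinearGroup (Fin n) F) (N : ℕ) (r : F)
    (h : A.1.charpoly ∣ X ^ N - C r) :
    (QuotientGroup.mk A : ProjectiveSpecialLinearGroup (Fin n) F) ^ N = 1 := by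
  rw [mk_pow_eq_one_iff]
  refine ⟨r, ?_⟩
  obtain ⟨c, hc⟩ := h
  have h1 := congrArg (aeval A.1) hc
  rw [map_mul, Matrix.aeval_self_charpoly, zero_mul, map_sub, map_pow, aeval_X, aeval_C,
    sub_eq_zero] at h1
  rw [h1]
  rfl

theorem coeff_zero_charpoly {n : ℕ} {F : Type*} [Field F] (A : Matrix.SpecialLinearGroup (Fin n) F) :
    A.1.charpoly.coeff 0 = (-1) ^ n := by
  have h1 := Matrix.det_eq_sign_charpoly_coeff A.1
  rw [show A.1.det = 1 from A.2, Fintype.card_fin] at h1
  have h2 : ((-1 : F) ^ n) * (-1) ^ n = 1 := by rw [← mul_pow]; simp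
  calc A.1.charpoly.coeff 0 = ((-1 : F) ^ n * (-1) ^ n) * A.1.charpoly.coeff 0 := by rw [h2, one_mul]
    _ = (-1) ^ n * ((-1) ^ n * A.1.charpoly.coeff 0) := by rw [mul_assoc]
    _ = (-1) ^ n := by rw [← h1, mul_one]

/-- An element of norm one of a commutative algebra of dimension `n`. -/
theorem exists_of_norm_eq_one {n : ℕ} {F R : Type*} [Field F] [CommRing R] [Algebra F R]
    [Nontrivial R] (b : Module.Basis (Fin n) F R) (u : R) (hu : Algebra.norm F u = 1) :
    ∃ g : ProjectiveSpecialLinearGroup (Fin n) F, ∀ N : ℕ, g ^ N = 1 ↔ ∃ r : F, u ^ N = algebraMap F R r := by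
  classical
  have hdet : (Algebra.leftMulMatrix b u).det = 1 := by
    rw [← Algebra.norm_eq_matrix_det, hu]
  refine ⟨QuotientGroup.mk ⟨Algebra.leftMulMatrix b u, hdet⟩, fun N => ?_⟩
  refine (mk_pow_eq_one_iff (⟨Algebra.leftMulMatrix b u, hdet⟩ : Matrix.SpecialLinearGroup (Fin n) F) N).trans ?_
  change (∃ r : F, (Algebra.leftMulMatrix b u) ^ N = _) ↔ _
  refine exists_congr fun r => ?_
  rw [← map_pow]
  have h2 : Matrix.scalar (Fin n) r = Algebra.leftMulMatrix b (algebraMap F R r) := by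
    rw [AlgHom.commutes]; rfl
  rw [h2]
  exact (Algebra.leftMulMatrix_injective b).eq_iff

/-- From `g ^ N = 1 ↔ m ∣ N` to the order. -/
theorem orderOf_eq_of_forall {G : Type*} [Group G] {g : G} {m : ℕ}
    (h : ∀ N : ℕ, g ^ N = 1 ↔ m ∣ N) : orderOf g = m := by
  apply Nat.dvd_antisymm
  · exact orderOf_dvd_of_pow_eq_one ((h m).2 dvd_rfl)
  · exact (h _).1 (pow_orderOf_eq_one g)

/-- divisors of an element order are element orders -/
theorem exists_orderOf_of_dvd {G : Type*} [Group G] {g : G} {m k : ℕ} (hm : m ≠ 0)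
    (h : orderOf g = m) (hk : k ∣ m) : ∃ x : G, orderOf x = k := by
  obtain ⟨c, rfl⟩ := hk
  have hc : c ≠ 0 := by rintro rfl; simp at hm
  have hk0 : k ≠ 0 := by rintro rfl; simp at hm
  refine ⟨g ^ c, ?_⟩
  rw [orderOf_pow' g hc, h, Nat.gcd_eq_right (Dvd.intro_left k rfl)]
  exact Nat.mul_div_cancel k (Nat.pos_of_ne_zero hc)

/-- In an extension of finite fields, `x ^ q = x` characterises the small field (as `x ^ (q-1) = 1`). -/
theorem exists_algebraMap_of_pow {F K : Type*} [Field F] [Fintype F] [Field K] [Algebra F K]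
    (x : K) (hx : x ^ (Fintype.card F - 1) = 1) : ∃ r : F, x = algebraMap F K r := by
  classical
  have hq : 1 < Fintype.card F := Fintype.one_lt_card
  have hx' : x ^ Fintype.card F = x := by
    calc x ^ Fintype.card F = x ^ (Fintype.card F - 1 + 1) := by rw [Nat.sub_add_cancel hq.le]
      _ = x := by rw [pow_succ, hx, one_mul]
  have h1 : (X ^ Fintype.card F - X : K[X]).roots = (Finset.univ.val : Multiset F).map (algebraMap F K) := by
    have h2 : (X ^ Fintype.card F - X : K[X]) = (X ^ Fintype.card F - X : F[X]).map (algebraMap F K) := by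
      simp
    rw [h2]
    have h3 := FiniteField.roots_X_pow_card_sub_X F
    have h4 : Multiset.card (X ^ Fintype.card F - X : F[X]).roots = (X ^ Fintype.card F - X : F[X]).natDegree := by
      rw [h3, FiniteField.X_pow_card_sub_X_natDegree_eq F hq]
      rfl
    rw [← roots_map_of_injective_of_card_eq_natDegree (algebraMap F K).injective h4, h3]
  have h5 : x ∈ (X ^ Fintype.card F - X : K[X]).roots := by
    rw [mem_roots (FiniteField.X_pow_card_sub_X_ne_zero K hq), IsRoot.def, eval_sub, eval_pow, eval_X,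
      hx', sub_self]
  rw [h1, Multiset.mem_map] at h5
  obtain ⟨r, -, hr⟩ := h5
  exact ⟨r, hr.symm⟩

theorem pow_card_sub_one_algebraMap {F K : Type*} [Field F] [Fintype F] [Field K] [Algebra F K]
    (r : F) (hr : r ≠ 0) : (algebraMap F K r) ^ (Fintype.card F - 1) = 1 := by
  rw [← map_pow, FiniteField.pow_card_sub_one_eq_one r hr, map_one]

/-- The root of an irreducible factor of degree `m` satisfies `ζ ^ ((q^m-1)/(q-1)) = ± g(0)`. -/
theorem root_pow {F : Type*} [Field F] [Fintype F] (g : F[X]) (hg : Irreducible g) (hm : g.Monic) :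
    (AdjoinRoot.root g) ^ ((Fintype.card F ^ g.natDegree - 1) / (Fintype.card F - 1)) =
      algebraMap F (AdjoinRoot g) ((-1) ^ g.natDegree * g.coeff 0) := by
  classical
  have : Fact (Irreducible g) := ⟨hg⟩
  have : Module.Finite F (AdjoinRoot g) := (AdjoinRoot.powerBasis hg.ne_zero).finite
  have : Finite (AdjoinRoot g) := Module.finite_of_finite F
  have h1 := FiniteField.algebraMap_norm_eq_pow (K := F) (x := AdjoinRoot.root g)
  have h2 : Nat.card (AdjoinRoot g) = Fintype.card F ^ g.natDegree := by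
    rw [Module.natCard_eq_pow_finrank (K := F), Nat.card_eq_fintype_card]
    congr 1
    exact (AdjoinRoot.powerBasis hg.ne_zero).finrank
  rw [h2, Nat.card_eq_fintype_card] at h1
  rw [← h1]
  congr 1
  have h3 := Algebra.PowerBasis.norm_gen_eq_coeff_zero_minpoly (AdjoinRoot.powerBasis hg.ne_zero)
  rw [AdjoinRoot.powerBasis_gen, AdjoinRoot.powerBasis_dim] at h3
  rw [h3, AdjoinRoot.minpoly_root hg.ne_zero, hm.leadingCoeff, inv_one, C_1, mul_one]

/-- `g ∣ X ^ N - r` from the root of `g`. -/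
theorem dvd_of_root_pow {F : Type*} [Field F] (g : F[X]) (N : ℕ) (r : F)
    (h : (AdjoinRoot.root g) ^ N = algebraMap F (AdjoinRoot g) r) : g ∣ X ^ N - C r := by
  rw [← AdjoinRoot.mk_eq_zero, map_sub, map_pow, AdjoinRoot.mk_X, h, AdjoinRoot.mk_C]
  exact sub_self _

theorem algebra_norm_prod {F K : Type*} [Field F] [Field K] [Algebra F K] [Module.Finite F K] (z : K) (c : F) :
    Algebra.norm F ((z, c) : K × F) = Algebra.norm F z * c := by
  rw [Algebra.norm_apply, Algebra.norm_apply]
  have h1 : (Algebra.lmul F (K × F)) (z, c) = LinearMap.prodMap (Algebra.lmul F K z) (Algebra.lmul F F c) := by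
    ext x <;> simp
  rw [h1, LinearMap.det_prodMap]
  congr 1
  have h2 : Algebra.lmul F F c = c • LinearMap.id := by
    ext; simp
  rw [h2, LinearMap.det_smul]
  simp

theorem exists_of_norm_eq_one' {n : ℕ} {F R : Type*} [Field F] [CommRing R] [Algebra F R]
    [Nontrivial R] [Module.Finite F R] (h : Module.finrank F R = n) (u : R) (hu : Algebra.norm F u = 1) :
    ∃ g : ProjectiveSpecialLinearGroup (Fin n) F, ∀ N : ℕ, g ^ N = 1 ↔ ∃ r : F, u ^ N = algebraMap F R r :=
  exists_of_norm_eq_one (Module.finBasisOfFinrankEq F R h) u hu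

/-- For elements of an extension field. -/
theorem exists_algebraMap_iff {F K : Type*} [Field F] [Fintype F] [Field K] [Algebra F K]
    (x : K) (hx : x ≠ 0) : (∃ r : F, x = algebraMap F K r) ↔ x ^ (Fintype.card F - 1) = 1 := by
  refine ⟨?_, exists_algebraMap_of_pow x⟩
  rintro ⟨r, rfl⟩
  refine pow_card_sub_one_algebraMap r ?_
  rintro rfl
  exact hx (map_zero _)

theorem exists_gen_pow_ne {K : Type*} [Field K] [Fintype K] :
    ∃ z : K, z ≠ 0 ∧ ∀ N : ℕ, z ^ N = 1 ↔ (Fintype.card K - 1) ∣ N := by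
  classical
  obtain ⟨g, hg⟩ := IsCyclic.exists_generator (α := Kˣ)
  refine ⟨g, g.ne_zero, fun N => ?_⟩
  have h1 : orderOf g = Fintype.card K - 1 := by
    rw [orderOf_eq_card_of_forall_mem_zpowers hg, Nat.card_eq_fintype_card, Fintype.card_units]
  rw [← h1, ← Units.val_pow_eq_pow_val, Units.val_eq_one]
  exact (orderOf_dvd_iff_pow_eq_one).symm

end Cfsg.Agent.H151.Spec
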