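import Mathlib
set_option linter.all false

-- part: H151/Primary
section
/-! # Primary decomposition of an endomorphism (helper151)

Every endomorphism `f` of a finite dimensional space `V` over a field `F` is, up to a linear isomorphism, the
multiplication by `(root)_i` on a finite product of rings `AdjoinRoot (p_i ^ e_i)`, `p_i` monic irreducible, `1 ≤ e_i`.

* `exists_decomp` : the decomposition
* `det_piMap`, `norm_pi` : determinants and norms of products
* `norm_root` : the norm of the root of a monic polynomial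
* `exists_norm_eq_pow` : over a finite field, every `e`-th power of a unit is the norm of a unit of `F[X]/(p^e)`.
-/

set_option autoImplicit false

namespace Cfsg.Agent.H151.Prim

open Polynomial Module

universe u v

/-! ### Determinants of products -/

theorem det_blockDiagonal'' {R : Type*} [CommRing R] {ι : Type*} [Fintype ι] [DecidableEq ι] {m : ι → Type*}
    [∀ i, Fintype (m i)] [∀ i, DecidableEq (m i)] (A : ∀ i, Matrix (m i) (m i) R) :
    (Matrix.blockDiagonal' A).det = ∏ i, (A i).det := by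
  classical
  let e := Fintype.equivFin ι
  let lo : LinearOrder ι := LinearOrder.lift' e e.injective
  rw [(Matrix.blockTriangular_blockDiagonal' A).det_fintype]
  refine Finset.prod_congr rfl fun k _ => ?_
  let g : m k ≃ {x : Sigma m // x.1 = k} :=
    { toFun := fun j => ⟨⟨k, j⟩, rfl⟩
      invFun := fun x => x.2 ▸ x.1.2
      left_inv := fun j => rfl
      right_inv := by rintro ⟨⟨i, j⟩, h⟩; subst h; rfl }
  rw [← Matrix.det_submatrix_equiv_self g]
  congr 1
  ext i j
  rw [Matrix.submatrix_apply, Matrix.toSquareBlock_def, Matrix.of_apply]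
  exact Matrix.blockDiagonal'_apply_eq A k i j

theorem det_piMap {F : Type*} [Field F] {ι : Type*} [Fintype ι] {M : ι → Type*}
    [∀ i, AddCommGroup (M i)] [∀ i, Module F (M i)] [∀ i, FiniteDimensional F (M i)]
    (f : ∀ i, M i →ₗ[F] M i) :
    LinearMap.det (LinearMap.pi (fun i ↦ (f i).comp (LinearMap.proj i)) : (∀ i, M i) →ₗ[F] (∀ i, M i)) =
      ∏ i, LinearMap.det (f i) := by
  classical
  let b : ∀ i, Basis (Fin (finrank F (M i))) F (M i) := fun i => Module.finBasis F (M i)
  let B := Pi.basis b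
  rw [← LinearMap.det_toMatrix B]
  have : ((LinearMap.toMatrix B B) (LinearMap.pi fun i ↦ f i ∘ₗ LinearMap.proj i)) =
      Matrix.blockDiagonal' (fun i ↦ LinearMap.toMatrix (b i) (b i) (f i)) := by
    ext ⟨i, a⟩ ⟨j, c⟩
    unfold B
    rw [LinearMap.toMatrix_apply, Pi.basis_apply, Pi.basis_repr, LinearMap.pi_apply, LinearMap.comp_apply,
      LinearMap.proj_apply]
    by_cases h : i = j
    · subst h
      rw [Matrix.blockDiagonal'_apply_eq]
      simp [LinearMap.toMatrix_apply]
    · rw [Matrix.blockDiagonal'_apply_ne _ _ _ h]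
      simp only
      rw [Pi.single_eq_of_ne h]; simp
  rw [this, det_blockDiagonal'']
  exact Finset.prod_congr rfl fun i _ => LinearMap.det_toMatrix (b i) (f i)

theorem norm_pi {F : Type*} [Field F] {ι : Type*} [Fintype ι] {A : ι → Type*}
    [∀ i, CommRing (A i)] [∀ i, Algebra F (A i)] [∀ i, FiniteDimensional F (A i)]
    (r : ∀ i, A i) : Algebra.norm F r = ∏ i, Algebra.norm F (r i) := by
  simp only [Algebra.norm_apply]
  rw [← det_piMap]
  rfl

/-! ### The norm of the root -/

theorem finrank_adjoinRoot {F : Type*} [Field F] {g : F[X]} (hg : g.Monic) :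
    finrank F (AdjoinRoot g) = g.natDegree := by
  have := (AdjoinRoot.powerBasis' hg).finrank
  rwa [AdjoinRoot.powerBasis'_dim] at this

theorem finite_adjoinRoot {F : Type*} [Field F] {g : F[X]} (hg : g.Monic) :
    FiniteDimensional F (AdjoinRoot g) := (AdjoinRoot.powerBasis' hg).finite

theorem minpoly_root_eq {F : Type*} [Field F] {g : F[X]} (hg : g.Monic) :
    minpoly F (AdjoinRoot.root g) = g := by
  rw [AdjoinRoot.minpoly_root hg.ne_zero, hg.leadingCoeff, inv_one, C_1, mul_one]

theorem norm_root {F : Type*} [Field F] {g : F[X]} (hg : g.Monic) :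
    Algebra.norm F (AdjoinRoot.root g) = (-1) ^ g.natDegree * g.coeff 0 := by
  have h3 := Algebra.PowerBasis.norm_gen_eq_coeff_zero_minpoly (AdjoinRoot.powerBasis' hg)
  rw [AdjoinRoot.powerBasis'_gen, AdjoinRoot.powerBasis'_dim] at h3
  rw [h3, minpoly_root_eq hg]

/-! ### Norms from `F[X]/(p^e)` over finite fields -/

theorem aeval_pow_card {F : Type*} [Field F] [Fintype F] {A : Type*} [CommRing A] [Algebra F A]
    (p : F[X]) (x : A) (k : ℕ) : aeval (x ^ (Fintype.card F ^ k)) p = (aeval x p) ^ (Fintype.card F ^ k) := by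
  induction k with
  | zero => simp
  | succ k ih =>
    rw [pow_succ, pow_mul, pow_mul, ← ih, ← expand_aeval, FiniteField.expand_card, map_pow]

/-- Over a finite field, the `e`-th powers are norms of units of `F[X]/(p^e)`. -/
theorem exists_norm_eq_pow {F : Type u} [Field F] [Finite F] {p : F[X]} (hp : Irreducible p) (hm : p.Monic)
    (e : ℕ) (c : F) (hc : c ≠ 0) :
    ∃ u : AdjoinRoot (p ^ e), IsUnit u ∧ Algebra.norm F u = c ^ e := by
  classical
  have : Fintype F := Fintype.ofFinite F
  have hpf : Fact (Irreducible p) := ⟨hp⟩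
  have hfE : FiniteDimensional F (AdjoinRoot p) := finite_adjoinRoot hm
  have hfin : Finite (AdjoinRoot p) := Module.finite_of_finite F
  have hroot : aeval (AdjoinRoot.root (p ^ e) ^ (Fintype.card F ^ e)) p = 0 := by
    rw [aeval_pow_card]
    have h1 : (aeval (AdjoinRoot.root (p ^ e)) p) ^ e = 0 := by
      rw [← map_pow, AdjoinRoot.aeval_eq, AdjoinRoot.mk_self]
    refine pow_eq_zero_of_le ?_ h1
    exact (Nat.lt_pow_self Fintype.one_lt_card).le
  let τ : AdjoinRoot p →ₐ[F] AdjoinRoot (p ^ e) :=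
    AdjoinRoot.liftAlgHom p (Algebra.ofId F (AdjoinRoot (p ^ e))) (AdjoinRoot.root (p ^ e) ^ (Fintype.card F ^ e)) hroot
  obtain ⟨x, hx⟩ := FiniteField.norm_surjective F (AdjoinRoot p) c
  have hx0 : x ≠ 0 := by
    rintro rfl
    rw [Algebra.norm_zero] at hx
    exact hc hx.symm
  refine ⟨τ x, (isUnit_iff_ne_zero.2 hx0).map τ, ?_⟩
  algebraize [τ.toRingHom]
  have htow : IsScalarTower F (AdjoinRoot p) (AdjoinRoot (p ^ e)) := IsScalarTower.of_algHom τ
  have hfA : FiniteDimensional F (AdjoinRoot (p ^ e)) := finite_adjoinRoot (hm.pow e)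
  have hfr : finrank (AdjoinRoot p) (AdjoinRoot (p ^ e)) = e := by
    have h1 := Module.finrank_mul_finrank F (AdjoinRoot p) (AdjoinRoot (p ^ e))
    rw [finrank_adjoinRoot hm, finrank_adjoinRoot (hm.pow e), hm.natDegree_pow, mul_comm] at h1
    exact Nat.eq_of_mul_eq_mul_right hp.natDegree_pos h1
  have h2 : τ x = algebraMap (AdjoinRoot p) (AdjoinRoot (p ^ e)) x := rfl
  rw [h2, ← Algebra.norm_norm (R := F) (S := AdjoinRoot p), Algebra.norm_algebraMap, hfr, map_pow, hx]

/-! ### The decomposition -/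

theorem exists_decomp_aux {F : Type u} [Field F] {M : Type v} [AddCommGroup M] [Module F[X] M]
    [Module.Finite F[X] M] (hM : Module.IsTorsion F[X] M) :
    ∃ (m : ℕ) (p : Fin m → F[X]) (e : Fin m → ℕ), (∀ i, Irreducible (p i) ∧ (p i).Monic ∧ 1 ≤ e i) ∧
      Nonempty (M ≃ₗ[F[X]] (∀ i, F[X] ⧸ Ideal.span {p i ^ e i})) := by
  classical
  obtain ⟨ι, hι, p, hp, e, ⟨ψ⟩⟩ := Module.equiv_directSum_of_isTorsion hM
  let J := {i : ι // e i ≠ 0}
  let σ : Fin (Fintype.card J) ≃ J := (Fintype.equivFin J).symm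
  refine ⟨Fintype.card J, fun j => normalize (p (σ j).1), fun j => e (σ j).1, ?_, ?_⟩
  · intro j
    refine ⟨?_, Polynomial.monic_normalize (hp _).ne_zero, Nat.one_le_iff_ne_zero.2 (σ j).2⟩
    exact (associated_normalize (p (σ j).1)).irreducible (hp _)
  · let Q : ι → Type u := fun i => F[X] ⧸ Ideal.span {p i ^ e i}
    have hsub : ∀ i, e i = 0 → Subsingleton (Q i) := by
      intro i hi
      have h1 : (Ideal.span {p i ^ e i} : Ideal F[X]) = ⊤ := by
        rw [hi, pow_zero]; exact Ideal.span_singleton_one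
      exact Ideal.Quotient.subsingleton_iff.2 h1
    let r : (∀ i, Q i) →ₗ[F[X]] (∀ j : J, Q j.1) := LinearMap.pi fun j => LinearMap.proj j.1
    have hr : Function.Bijective r := by
      constructor
      · intro x y hxy
        ext i
        by_cases hi : e i = 0
        · have := hsub i hi
          exact Subsingleton.elim _ _
        · exact congrFun hxy ⟨i, hi⟩
      · intro y
        refine ⟨fun i => if hi : e i ≠ 0 then y ⟨i, hi⟩ else 0, ?_⟩
        ext j
        change (if hi : e j.1 ≠ 0 then y ⟨j.1, hi⟩ else 0) = y j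
        rw [dif_pos j.2]
    let E1 := DirectSum.linearEquivFunOnFintype F[X] ι Q
    let E2 := LinearEquiv.ofBijective r hr
    let E3 : (∀ j : J, Q j.1) ≃ₗ[F[X]] (∀ j : Fin (Fintype.card J), Q (σ j).1) :=
      (LinearEquiv.piCongrLeft F[X] (fun j : J => Q j.1) σ).symm
    have hspan : ∀ j : Fin (Fintype.card J), (Ideal.span {p (σ j).1 ^ e (σ j).1} : Ideal F[X]) =
        Ideal.span {(normalize (p (σ j).1)) ^ e (σ j).1} := by
      intro j
      rw [Ideal.span_singleton_eq_span_singleton]
      exact (associated_normalize (p (σ j).1)).pow_pow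
    let E4 : (∀ j : Fin (Fintype.card J), Q (σ j).1) ≃ₗ[F[X]]
        (∀ j, F[X] ⧸ Ideal.span {(normalize (p (σ j).1)) ^ e (σ j).1}) :=
      LinearEquiv.piCongrRight fun j => Submodule.quotEquivOfEq _ _ (hspan j)
    exact ⟨((ψ.trans E1).trans E2).trans (E3.trans E4)⟩

/-- the identity, from the quotient to `AdjoinRoot` -/
def toAR {F : Type u} [Field F] {q : F[X]} (x : F[X] ⧸ Ideal.span {q}) : AdjoinRoot q := x

theorem toAR_smul {F : Type u} [Field F] {q : F[X]} (g : F[X]) (x : F[X] ⧸ Ideal.span {q}) :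
    toAR (g • x) = AdjoinRoot.mk q g * toAR x := by
  obtain ⟨y, rfl⟩ := Ideal.Quotient.mk_surjective x
  rfl

theorem toAR_add {F : Type u} [Field F] {q : F[X]} (x y : F[X] ⧸ Ideal.span {q}) :
    toAR (x + y) = toAR x + toAR y := rfl

/-- Every endomorphism of a finite dimensional space is the multiplication by the roots on a product of
`AdjoinRoot (p i ^ e i)`, `p i` monic irreducible, `1 ≤ e i`. -/
theorem exists_decomp {F : Type u} [Field F] {V : Type v} [AddCommGroup V] [Module F V]
    [FiniteDimensional F V] (f : V →ₗ[F] V) :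
    ∃ (m : ℕ) (p : Fin m → F[X]) (e : Fin m → ℕ), (∀ i, Irreducible (p i) ∧ (p i).Monic ∧ 1 ≤ e i) ∧
      ∃ φ : V ≃ₗ[F] (∀ i, AdjoinRoot (p i ^ e i)), ∀ v i, φ (f v) i = AdjoinRoot.root (p i ^ e i) * φ v i := by
  classical
  obtain ⟨m, p, e, hpe, ⟨Φ⟩⟩ := exists_decomp_aux (M := AEval' f)
    (AEval.isTorsion_of_finiteDimensional F V f)
  refine ⟨m, p, e, hpe, ?_⟩
  let φ : V → (∀ i, AdjoinRoot (p i ^ e i)) := fun v i => toAR (Φ (AEval'.of f v) i)
  have hadd : ∀ v w, φ (v + w) = φ v + φ w := by
    intro v w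
    ext i
    simp only [φ, map_add, Pi.add_apply, toAR_add]
  have hsmul : ∀ (c : F) v, φ (c • v) = c • φ v := by
    intro c v
    ext i
    simp only [φ, Pi.smul_apply]
    rw [map_smul, ← AEval.C_smul, map_smul, Pi.smul_apply, toAR_smul, Algebra.smul_def,
      AdjoinRoot.algebraMap_eq, AdjoinRoot.mk_C]
  have hbij : Function.Bijective φ := by
    constructor
    · intro v w h
      exact (AEval'.of f).injective (Φ.injective h)
    · intro y
      obtain ⟨z, hz⟩ := Φ.surjective y
      obtain ⟨v, rfl⟩ := (AEval'.of f).surjective z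
      exact ⟨v, hz⟩
  refine ⟨LinearEquiv.ofBijective { toFun := φ, map_add' := hadd, map_smul' := hsmul } hbij, ?_⟩
  intro v i
  change toAR (Φ (AEval'.of f (f v)) i) = AdjoinRoot.root (p i ^ e i) * toAR (Φ (AEval'.of f v) i)
  rw [← AEval'.X_smul_of, map_smul, Pi.smul_apply, toAR_smul, AdjoinRoot.mk_X]

/-- A primary decomposition of the endomorphism `f`. -/
structure Decomp {F : Type u} [Field F] {V : Type v} [AddCommGroup V] [Module F V] (f : V →ₗ[F] V) where
  /-- number of summands -/
  m : ℕ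
  /-- the irreducible polynomials -/
  p : Fin m → F[X]
  /-- the exponents -/
  e : Fin m → ℕ
  irr : ∀ i, Irreducible (p i)
  monic : ∀ i, (p i).Monic
  pos : ∀ i, 1 ≤ e i
  /-- the isomorphism -/
  φ : V ≃ₗ[F] (∀ i, AdjoinRoot (p i ^ e i))
  hφ : ∀ v i, φ (f v) i = AdjoinRoot.root (p i ^ e i) * φ v i

theorem nonempty_decomp {F : Type u} [Field F] {V : Type v} [AddCommGroup V] [Module F V]
    [FiniteDimensional F V] (f : V →ₗ[F] V) : Nonempty (Decomp f) := by
  obtain ⟨m, p, e, hpe, φ, hφ⟩ := exists_decomp f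
  exact ⟨⟨m, p, e, fun i => (hpe i).1, fun i => (hpe i).2.1, fun i => (hpe i).2.2, φ, hφ⟩⟩

/-- `F[X]/(q) = F[X]/(q')` for `q = q'` -/
noncomputable def arCast {F : Type u} [Field F] {q q' : F[X]} (h : q = q') : AdjoinRoot q ≃ₗ[F] AdjoinRoot q' :=
  h ▸ LinearEquiv.refl F (AdjoinRoot q)

theorem arCast_root_mul {F : Type u} [Field F] {q q' : F[X]} (h : q = q') (x : AdjoinRoot q) :
    arCast h (AdjoinRoot.root q * x) = AdjoinRoot.root q' * arCast h x := by
  subst h; rfl

namespace Decomp

variable {F : Type u} [Field F] {V : Type v} [AddCommGroup V] [Module F V] {f : V →ₗ[F] V}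

theorem monic_pow (D : Decomp f) (i : Fin D.m) : (D.p i ^ D.e i).Monic := (D.monic i).pow _

theorem finiteDimensional (D : Decomp f) (i : Fin D.m) : FiniteDimensional F (AdjoinRoot (D.p i ^ D.e i)) :=
  finite_adjoinRoot (D.monic_pow i)

theorem finrank_eq (D : Decomp f) : finrank F V = ∑ i, D.e i * (D.p i).natDegree := by
  have := fun i => D.finiteDimensional i
  rw [D.φ.finrank_eq, Module.finrank_pi_fintype]
  refine Finset.sum_congr rfl fun i _ => ?_
  rw [finrank_adjoinRoot (D.monic_pow i), (D.monic i).natDegree_pow]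

/-- The endomorphism commuting with `f` given by multiplication by a tuple. -/
noncomputable def mulBy (D : Decomp f) (u : ∀ i, AdjoinRoot (D.p i ^ D.e i)) : V →ₗ[F] V :=
  D.φ.symm.toLinearMap ∘ₗ (Algebra.lmul F (∀ i, AdjoinRoot (D.p i ^ D.e i)) u) ∘ₗ D.φ.toLinearMap

theorem φ_mulBy (D : Decomp f) (u : ∀ i, AdjoinRoot (D.p i ^ D.e i)) (v : V) (i : Fin D.m) :
    D.φ (D.mulBy u v) i = u i * D.φ v i := by
  simp [mulBy]

theorem mulBy_root (D : Decomp f) : D.mulBy (fun i => AdjoinRoot.root (D.p i ^ D.e i)) = f := by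
  ext v
  apply D.φ.injective
  ext i
  rw [φ_mulBy, D.hφ]

theorem mulBy_comm (D : Decomp f) (u : ∀ i, AdjoinRoot (D.p i ^ D.e i)) :
    D.mulBy u ∘ₗ f = f ∘ₗ D.mulBy u := by
  ext v
  apply D.φ.injective
  ext i
  rw [LinearMap.comp_apply, LinearMap.comp_apply, φ_mulBy, D.hφ, D.hφ, φ_mulBy]
  ring

theorem det_mulBy (D : Decomp f) (u : ∀ i, AdjoinRoot (D.p i ^ D.e i)) :
    LinearMap.det (D.mulBy u) = ∏ i, Algebra.norm F (u i) := by
  have := fun i => D.finiteDimensional i
  rw [← norm_pi, Algebra.norm_apply]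
  exact LinearMap.det_conj (Algebra.lmul F (∀ i, AdjoinRoot (D.p i ^ D.e i)) u) D.φ.symm

theorem det_eq (D : Decomp f) : LinearMap.det f =
    ∏ i, ((-1) ^ (D.p i).natDegree * (D.p i).coeff 0) ^ D.e i := by
  have h := D.det_mulBy (fun i => AdjoinRoot.root (D.p i ^ D.e i))
  rw [D.mulBy_root] at h
  rw [h]
  refine Finset.prod_congr rfl fun i _ => ?_
  rw [norm_root (D.monic_pow i), (D.monic i).natDegree_pow, mul_pow, ← pow_mul, mul_comm (D.e i)]
  congr 1
  rw [coeff_zero_eq_eval_zero, coeff_zero_eq_eval_zero, eval_pow]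

/-- the product of the irreducible polynomials with exponent `k` -/
noncomputable def g (D : Decomp f) (k : ℕ) : F[X] := ∏ i with D.e i = k, D.p i

theorem g_monic (D : Decomp f) (k : ℕ) : (D.g k).Monic := monic_prod_of_monic _ _ fun i _ => D.monic i

theorem g_zero (D : Decomp f) : D.g 0 = 1 := by
  rw [g, Finset.prod_eq_one]
  intro i hi
  have := D.pos i
  rw [Finset.mem_filter] at hi
  omega

theorem natDegree_g (D : Decomp f) (k : ℕ) : (D.g k).natDegree = ∑ i with D.e i = k, (D.p i).natDegree :=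
  natDegree_prod_of_monic _ _ fun i _ => D.monic i

theorem e_le (D : Decomp f) (i : Fin D.m) : D.e i ≤ finrank F V := by
  rw [D.finrank_eq]
  have h1 : 1 ≤ (D.p i).natDegree := Nat.one_le_iff_ne_zero.2 (D.irr i).natDegree_pos.ne'
  calc D.e i = D.e i * 1 := (mul_one _).symm
    _ ≤ D.e i * (D.p i).natDegree := Nat.mul_le_mul_left _ h1
    _ ≤ _ := Finset.single_le_sum (f := fun i => D.e i * (D.p i).natDegree) (fun _ _ => Nat.zero_le _)
      (Finset.mem_univ i)

theorem g_eq_one_of_lt (D : Decomp f) {k : ℕ} (hk : finrank F V < k) : D.g k = 1 := by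
  rw [g, Finset.prod_eq_one]
  intro i hi
  have := D.e_le i
  rw [Finset.mem_filter] at hi
  omega

theorem sum_g (D : Decomp f) : ∑ k ∈ Finset.range (finrank F V + 1), k * (D.g k).natDegree = finrank F V := by
  conv_rhs => rw [D.finrank_eq]
  rw [← Finset.sum_fiberwise_of_maps_to (s := Finset.univ) (t := Finset.range (finrank F V + 1)) (g := D.e)
    (fun i _ => Finset.mem_range.2 (Nat.lt_succ_of_le (D.e_le i)))]
  refine Finset.sum_congr rfl fun k _ => ?_
  rw [natDegree_g, Finset.mul_sum]
  refine Finset.sum_congr rfl fun i hi => ?_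
  rw [(Finset.mem_filter.1 hi).2]

theorem g_coeff_zero (D : Decomp f) (k : ℕ) : (-1) ^ (D.g k).natDegree * (D.g k).coeff 0 =
    ∏ i with D.e i = k, ((-1) ^ (D.p i).natDegree * (D.p i).coeff 0) := by
  rw [Finset.prod_mul_distrib, natDegree_g, ← Finset.prod_pow_eq_pow_sum, g]
  congr 1
  rw [coeff_zero_eq_eval_zero, eval_prod]
  exact Finset.prod_congr rfl fun i _ => (coeff_zero_eq_eval_zero _).symm

theorem det_eq_prod_g (D : Decomp f) : LinearMap.det f =
    ∏ k ∈ Finset.range (finrank F V + 1), ((-1) ^ (D.g k).natDegree * (D.g k).coeff 0) ^ k := by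
  rw [D.det_eq, ← Finset.prod_fiberwise_of_maps_to (s := Finset.univ) (t := Finset.range (finrank F V + 1))
    (g := D.e) (fun i _ => Finset.mem_range.2 (Nat.lt_succ_of_le (D.e_le i)))]
  refine Finset.prod_congr rfl fun k _ => ?_
  rw [g_coeff_zero, ← Finset.prod_pow]
  refine Finset.prod_congr rfl fun i hi => ?_
  rw [(Finset.mem_filter.1 hi).2]

/-- Over a finite field the determinants of the automorphisms commuting with `f` contain all `k`-th powers, for
every `k` with `D.g k ≠ 1`. -/
theorem exists_comm_det_eq_pow [Finite F] (D : Decomp f) {i : Fin D.m} (c : F) (hc : c ≠ 0) :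
    ∃ z : V →ₗ[F] V, z ∘ₗ f = f ∘ₗ z ∧ LinearMap.det z = c ^ D.e i := by
  classical
  obtain ⟨u, -, hu⟩ := exists_norm_eq_pow (D.irr i) (D.monic i) (D.e i) c hc
  refine ⟨D.mulBy (Function.update 1 i u), D.mulBy_comm _, ?_⟩
  rw [det_mulBy, Finset.prod_eq_single i]
  · rw [Function.update_self, hu]
  · intro j _ hj
    rw [Function.update_of_ne hj, Pi.one_apply, map_one]
  · intro h; exact absurd (Finset.mem_univ _) h

theorem g_coeff_ne (D : Decomp f) (hdet : LinearMap.det f ≠ 0) (k : ℕ) : (D.g k).coeff 0 ≠ 0 := by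
  rw [coeff_zero_eq_eval_zero, g, eval_prod]
  rw [Finset.prod_ne_zero_iff]
  intro i hi
  rw [← coeff_zero_eq_eval_zero]
  intro h0
  apply hdet
  rw [D.det_eq]
  apply Finset.prod_eq_zero (Finset.mem_univ i)
  rw [h0, mul_zero, zero_pow]
  have := D.pos i
  omega

theorem exists_of_g_ne_one (D : Decomp f) {k : ℕ} (hk : D.g k ≠ 1) : ∃ i, D.e i = k := by
  by_contra hne
  push Not at hne
  apply hk
  rw [g, Finset.prod_eq_one]
  intro i hi
  exact absurd (Finset.mem_filter.1 hi).2 (hne i)

/-- Two endomorphisms with the same tuple `g` are conjugate. -/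
theorem exists_conj {V' : Type v} [AddCommGroup V'] [Module F V'] {f' : V' →ₗ[F] V'}
    (D : Decomp f) (D' : Decomp f') (h : ∀ k, D.g k = D'.g k) :
    ∃ ψ : V ≃ₗ[F] V', ∀ v, ψ (f v) = f' (ψ v) := by
  classical
  have hms : ∀ k, ((Finset.univ.filter fun i => D.e i = k).val.map D.p) =
      ((Finset.univ.filter fun i => D'.e i = k).val.map D'.p) := by
    intro k
    have h1 : Multiset.Rel Associated ((Finset.univ.filter fun i => D.e i = k).val.map D.p)
        ((Finset.univ.filter fun i => D'.e i = k).val.map D'.p) := by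
      apply UniqueFactorizationMonoid.factors_unique
      · intro x hx
        obtain ⟨i, -, rfl⟩ := Multiset.mem_map.1 hx
        exact D.irr i
      · intro x hx
        obtain ⟨i, -, rfl⟩ := Multiset.mem_map.1 hx
        exact D'.irr i
      · have := h k
        rw [g, g] at this
        exact Associated.of_eq this
    rw [← Multiset.rel_eq]
    refine h1.mono ?_
    intro a ha b hb hab
    obtain ⟨i, -, rfl⟩ := Multiset.mem_map.1 ha
    obtain ⟨j, -, rfl⟩ := Multiset.mem_map.1 hb
    exact eq_of_monic_of_associated (D.monic i) (D'.monic j) hab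
  have hcard : ∀ c : F[X] × ℕ, Nonempty ({i : Fin D.m // (D.p i, D.e i) = c} ≃ {j : Fin D'.m // (D'.p j, D'.e j) = c}) := by
    rintro ⟨π, k⟩
    rw [← Fintype.card_eq, Fintype.card_subtype, Fintype.card_subtype]
    have h2 := congrArg (Multiset.count π) (hms k)
    rw [Multiset.count_map, Multiset.count_map] at h2
    have h3 : ∀ {n : ℕ} (P : Fin n → F[X]) (E : Fin n → ℕ),
        (Finset.univ.filter fun i => (P i, E i) = (π, k)).card =
          Multiset.card (Multiset.filter (fun a => π = P a) (Finset.univ.filter fun i => E i = k).val) := by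
      intro n P E
      have : (Finset.univ.filter fun i => (P i, E i) = (π, k)) =
          (Finset.univ.filter fun i => E i = k).filter fun a => π = P a := by
        ext i
        simp only [Finset.mem_filter, Finset.mem_univ, true_and, Prod.mk.injEq]
        constructor
        · rintro ⟨a, b⟩; exact ⟨b, a.symm⟩
        · rintro ⟨a, b⟩; exact ⟨b.symm, a⟩
      rw [this]; rfl
    rw [h3, h3, h2]
  let σ : Fin D.m ≃ Fin D'.m := Equiv.ofFiberEquiv (f := fun i => (D.p i, D.e i))
    (g := fun j => (D'.p j, D'.e j)) fun c => (hcard c).some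
  have hσ : ∀ i, (D'.p (σ i), D'.e (σ i)) = (D.p i, D.e i) := fun i =>
    Equiv.ofFiberEquiv_map (f := fun i => (D.p i, D.e i)) (g := fun j => (D'.p j, D'.e j)) _ i
  have hq : ∀ i, D.p i ^ D.e i = D'.p (σ i) ^ D'.e (σ i) := by
    intro i
    have h1 := congrArg Prod.fst (hσ i)
    have h2 := congrArg Prod.snd (hσ i)
    simp only at h1 h2
    rw [h1, h2]
  let E1 : (∀ i, AdjoinRoot (D.p i ^ D.e i)) ≃ₗ[F] (∀ i, AdjoinRoot (D'.p (σ i) ^ D'.e (σ i))) :=
    LinearEquiv.piCongrRight fun i => arCast (hq i)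
  let E2 : (∀ i, AdjoinRoot (D'.p (σ i) ^ D'.e (σ i))) ≃ₗ[F] (∀ j, AdjoinRoot (D'.p j ^ D'.e j)) :=
    LinearEquiv.piCongrLeft F (fun j => AdjoinRoot (D'.p j ^ D'.e j)) σ
  refine ⟨D.φ.trans ((E1.trans E2).trans D'.φ.symm), ?_⟩
  intro v
  apply D'.φ.injective
  ext j
  obtain ⟨i, rfl⟩ := σ.surjective j
  have hE : ∀ w, D'.φ ((D.φ.trans ((E1.trans E2).trans D'.φ.symm)) w) (σ i) = arCast (hq i) (D.φ w i) := by
    intro w
    simp only [LinearEquiv.trans_apply, LinearEquiv.apply_symm_apply]
    exact Equiv.piCongrLeft_apply_apply (fun j => AdjoinRoot (D'.p j ^ D'.e j)) σ (E1 (D.φ w)) i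
  rw [hE, D.hφ, arCast_root_mul, D'.hφ, hE]

end Decomp

end Cfsg.Agent.H151.Prim
end

-- part: H151/TupleCount
section
/-! # Counting tuples of polynomials (helper151)

`X F r N`: the tuples `(g_1, ..., g_r)` of monic polynomials over the finite field `F` with non-zero constant term and
`∑ k deg g_k = N`. They parametrise the conjugacy classes of `GL_N(F)` when `r = N`.
`card_X_le`: their number is at most `K q r N`, and `K_add_le`: `K q r N + q^(N-r) ≤ q^N` for `1 ≤ r ≤ N`.
-/

set_option autoImplicit false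

namespace Cfsg.Agent.H151.Cnt

open Polynomial Finset

/-! ### The numbers -/

/-- number of monic polynomials of degree `a` with non-zero constant term -/
def w (q a : ℕ) : ℕ := if a = 0 then 1 else (q - 1) * q ^ (a - 1)

/-- number of tuples `(g_1, ..., g_r)` with `∑ k deg g_k = N` -/
def K (q : ℕ) : ℕ → ℕ → ℕ
  | 0, N => if N = 0 then 1 else 0
  | r + 1, N => ∑ a ∈ range (N / (r + 1) + 1), w q a * K q r (N - a * (r + 1))

/-- auxiliary sum -/
def S (q r N : ℕ) : ℕ := ∑ a ∈ range (N / (r + 1)), q ^ a * K q r (N - (a + 1) * (r + 1))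

theorem K_succ (q r N : ℕ) : K q (r + 1) N = K q r N + (q - 1) * S q r N := by
  rw [K, sum_range_succ', S, mul_sum, add_comm]
  congr 1
  · simp [w]
  · refine sum_congr rfl fun a _ => ?_
    rw [w, if_neg (Nat.succ_ne_zero a), Nat.add_sub_cancel, mul_assoc]

theorem S_lt {q r N : ℕ} (h : N < r + 1) : S q r N = 0 := by
  rw [S, Nat.div_eq_of_lt h, range_zero, sum_empty]

theorem S_ge {q r N : ℕ} (h : r + 1 ≤ N) :
    S q r N = K q r (N - (r + 1)) + q * S q r (N - (r + 1)) := by
  have h1 : N / (r + 1) = (N - (r + 1)) / (r + 1) + 1 := by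
    rw [Nat.div_eq N (r + 1), if_pos ⟨Nat.succ_pos r, h⟩]
  rw [S, h1, sum_range_succ', S, mul_sum, add_comm]
  congr 1
  · simp
  · refine sum_congr rfl fun a _ => ?_
    rw [pow_succ]
    have h2 : N - (a + 1 + 1) * (r + 1) = N - (r + 1) - (a + 1) * (r + 1) := by
      rw [Nat.sub_sub]; congr 1; ring
    rw [h2]
    ring

theorem K_le_and (q : ℕ) (hq : 1 ≤ q) (r : ℕ) :
    (∀ N, K q r N ≤ q ^ N) ∧ (1 ≤ r → ∀ N, r ≤ N → K q r N + q ^ (N - r) ≤ q ^ N) := by
  induction r with
  | zero =>
    refine ⟨fun N => ?_, fun h => absurd h (by norm_num)⟩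
    rw [K]
    split_ifs with h
    · exact Nat.one_le_pow _ _ hq
    · exact Nat.zero_le _
  | succ r ih =>
    obtain ⟨ih1, ih2⟩ := ih
    -- bound for S
    have hS : ∀ N, r + 1 ≤ N → S q r N ≤ q ^ (N - (r + 1)) := by
      intro N
      induction N using Nat.strong_induction_on with
      | _ N IH =>
        intro hN
        rw [S_ge hN]
        set m := N - (r + 1) with hm
        by_cases hmr : m < r + 1
        · rw [S_lt hmr, mul_zero, add_zero]
          exact ih1 m
        · push Not at hmr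
          have h1 := IH m (by omega) hmr
          rcases Nat.eq_zero_or_pos r with h0 | h0
          · subst h0
            have hK : K q 0 m = 0 := by rw [K, if_neg]; omega
            rw [hK, zero_add]
            calc q * S q 0 m ≤ q * q ^ (m - (0 + 1)) := Nat.mul_le_mul_left _ h1
              _ = q ^ m := by rw [← pow_succ']; congr 1; omega
          · have h2 := ih2 h0 m (by omega)
            calc K q r m + q * S q r m ≤ K q r m + q * q ^ (m - (r + 1)) :=
                  Nat.add_le_add_left (Nat.mul_le_mul_left _ h1) _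
              _ = K q r m + q ^ (m - r) := by rw [← pow_succ']; congr 2; omega
              _ ≤ q ^ m := h2
    have hmain : ∀ N, r + 1 ≤ N → K q (r + 1) N + q ^ (N - (r + 1)) ≤ q ^ N := by
      intro N hN
      have h1 := hS N hN
      have h3 : (q - 1) * q ^ (N - (r + 1)) + q ^ (N - (r + 1)) = q ^ (N - r) := by
        calc (q - 1) * q ^ (N - (r + 1)) + q ^ (N - (r + 1)) = (q - 1 + 1) * q ^ (N - (r + 1)) := by ring
          _ = q * q ^ (N - (r + 1)) := by rw [Nat.sub_add_cancel hq]
          _ = q ^ (N - r) := by rw [← pow_succ']; congr 1; omega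
      have h4 : K q (r + 1) N + q ^ (N - (r + 1)) ≤ K q r N + q ^ (N - r) := by
        rw [K_succ, ← h3, add_assoc]
        have := Nat.mul_le_mul_left (q - 1) h1
        omega
      rcases Nat.eq_zero_or_pos r with h0 | h0
      · subst h0
        have hK : K q 0 N = 0 := by rw [K, if_neg]; omega
        exact h4.trans (by rw [hK, Nat.zero_add, Nat.sub_zero])
      · exact h4.trans (ih2 h0 N (by omega))
    refine ⟨fun N => ?_, fun _ => hmain⟩
    by_cases hN : r + 1 ≤ N
    · exact (Nat.le_add_right _ _).trans (hmain N hN)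
    · push Not at hN
      rw [K_succ, S_lt hN, mul_zero, add_zero]
      exact ih1 N

theorem K_le (q : ℕ) (hq : 1 ≤ q) (r N : ℕ) : K q r N ≤ q ^ N := (K_le_and q hq r).1 N

theorem K_add_one_le (q : ℕ) (hq : 1 ≤ q) {N : ℕ} (hN : 1 ≤ N) : K q N N + 1 ≤ q ^ N := by
  have := (K_le_and q hq N).2 hN N le_rfl
  rwa [Nat.sub_self, pow_zero] at this

theorem K_one_one (q : ℕ) : K q 1 1 = q - 1 := by
  simp [K, w, sum_range_succ]

theorem K_two_two (q : ℕ) (hq : 1 ≤ q) : K q 2 2 = q ^ 2 - 1 := by
  obtain ⟨t, rfl⟩ : ∃ t, q = t + 1 := ⟨q - 1, by omega⟩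
  have h : (t + 1) ^ 2 = (t * (t + 1) + t) + 1 := by ring
  rw [h, Nat.add_sub_cancel]
  simp [K, w, sum_range_succ]

theorem K_three_three (q : ℕ) (hq : 1 ≤ q) : K q 3 3 = (q - 1) * (q * (q + 1)) := by
  obtain ⟨t, rfl⟩ : ∃ t, q = t + 1 := ⟨q - 1, by omega⟩
  simp [K, w, sum_range_succ]
  ring

/-! ### Monic polynomials with non-zero constant term -/

variable (F : Type*) [Field F]

/-- monic polynomials of degree `a` with non-zero constant term -/
def P (a : ℕ) : Set F[X] := {f | f.Monic ∧ f.coeff 0 ≠ 0 ∧ f.natDegree = a}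

variable {F}

theorem P_zero_subset : P F 0 ⊆ {1} := by
  rintro f ⟨h1, -, h2⟩
  exact (Polynomial.Monic.natDegree_eq_zero h1).1 h2

/-- coordinates -/
def coord (a : ℕ) (f : P F (a + 1)) : Fˣ × (Fin a → F) :=
  (Units.mk0 (f.1.coeff 0) f.2.2.1, fun i => f.1.coeff (i + 1))

theorem coord_injective (a : ℕ) : Function.Injective (coord (F := F) a) := by
  rintro ⟨f, hf1, hf2, hf3⟩ ⟨g, hg1, hg2, hg3⟩ h
  apply Subtype.ext
  have h1 : f.coeff 0 = g.coeff 0 := by
    have := congrArg (fun z : Fˣ × (Fin a → F) => (z.1 : F)) h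
    simpa [coord] using this
  have h2 : ∀ i : Fin a, f.coeff (i + 1) = g.coeff (i + 1) := by
    intro i
    have := congrArg (fun z : Fˣ × (Fin a → F) => z.2 i) h
    simpa [coord] using this
  ext n
  rcases Nat.lt_trichotomy n (a + 1) with hn | hn | hn
  · rcases n with _ | n
    · exact h1
    · exact h2 ⟨n, by omega⟩
  · subst hn
    change f.coeff (a + 1) = g.coeff (a + 1)
    rw [← hf3, hf1.coeff_natDegree, hf3, ← hg3, hg1.coeff_natDegree]
  · change f.coeff n = g.coeff n
    rw [coeff_eq_zero_of_natDegree_lt (by rw [hf3]; exact hn), coeff_eq_zero_of_natDegree_lt (by rw [hg3]; exact hn)]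

theorem coord_surjective (a : ℕ) : Function.Surjective (coord (F := F) a) := by
  classical
  rintro ⟨u, v⟩
  set c : Fin (a + 1) → F := Fin.cons (u : F) v with hc
  have hdeg : (ofFn (a + 1) c).degree < ((a + 1 : ℕ) : WithBot ℕ) := ofFn_degree_lt c
  have hm : (X ^ (a + 1) + ofFn (a + 1) c : F[X]).Monic := monic_X_pow_add hdeg
  have hn : (X ^ (a + 1) + ofFn (a + 1) c : F[X]).natDegree = a + 1 := by
    rw [natDegree_add_eq_left_of_degree_lt, natDegree_X_pow]
    rw [degree_X_pow]; exact hdeg
  have hcoeff : ∀ i : Fin (a + 1), (X ^ (a + 1) + ofFn (a + 1) c : F[X]).coeff i = c i := by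
    intro i
    rw [coeff_add, coeff_X_pow, if_neg (by omega), zero_add, ofFn_coeff_eq_val_of_lt c i.2]
  have h0 : (X ^ (a + 1) + ofFn (a + 1) c : F[X]).coeff 0 = u := hcoeff 0
  refine ⟨⟨X ^ (a + 1) + ofFn (a + 1) c, hm, by rw [h0]; exact u.ne_zero, hn⟩, ?_⟩
  refine Prod.ext (Units.ext ?_) (funext fun i => ?_)
  · exact h0
  · exact hcoeff i.succ

instance finite_P [Finite F] (a : ℕ) : Finite (P F a) := by
  rcases a with _ | a
  · exact ((Set.finite_singleton _).subset P_zero_subset).to_subtype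
  · exact Finite.of_injective _ (coord_injective a)

theorem card_P_le [Fintype F] (a : ℕ) : Nat.card (P F a) ≤ w (Fintype.card F) a := by
  classical
  rcases a with _ | a
  · rw [w, if_pos rfl]
    have : Nat.card (P F 0) ≤ Nat.card ({1} : Set F[X]) :=
      Nat.card_le_card_of_injective (Set.inclusion P_zero_subset) (Set.inclusion_injective _)
    simpa using this
  · rw [w, if_neg (Nat.succ_ne_zero a), Nat.add_sub_cancel]
    have := Nat.card_le_card_of_injective _ (coord_injective (F := F) a)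
    rw [Nat.card_prod, Nat.card_eq_fintype_card (α := Fˣ), Fintype.card_units, Nat.card_fun, Nat.card_fin,
      Nat.card_eq_fintype_card (α := F)] at this
    exact this

theorem card_P_succ [Fintype F] (a : ℕ) :
    Nat.card (P F (a + 1)) = (Fintype.card F - 1) * Fintype.card F ^ a := by
  classical
  rw [Nat.card_congr (Equiv.ofBijective _ ⟨coord_injective (F := F) a, coord_surjective a⟩),
    Nat.card_prod, Nat.card_eq_fintype_card (α := Fˣ), Fintype.card_units, Nat.card_fun, Nat.card_fin,
    Nat.card_eq_fintype_card (α := F)]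

/-! ### Tuples -/

variable (F)

/-- tuples `(g_1, ..., g_r)` with `∑ k deg g_k = N` -/
def X (r N : ℕ) : Set (ℕ → F[X]) :=
  {g | (∀ k, (g k).Monic ∧ (g k).coeff 0 ≠ 0) ∧ (∀ k, k = 0 ∨ r < k → g k = 1) ∧
    ∑ k ∈ range (r + 1), k * (g k).natDegree = N}

variable {F}

theorem X_zero_subset (N : ℕ) : X F 0 N ⊆ {fun _ => 1} := by
  rintro g ⟨-, h, -⟩
  rw [Set.mem_singleton_iff]
  funext k
  exact h k (by omega)

theorem X_zero_empty {N : ℕ} (hN : N ≠ 0) : X F 0 N = ∅ := by
  rw [Set.eq_empty_iff_forall_notMem]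
  rintro g ⟨-, -, h⟩
  simp at h
  exact hN h.symm

/-- splitting off the last polynomial -/
noncomputable def split (r N : ℕ) (g : X F (r + 1) N) :
    Σ a : Fin (N / (r + 1) + 1), P F a × X F r (N - a * (r + 1)) :=
  have h1 : (g.1 (r + 1)).natDegree * (r + 1) ≤ N := by
    have h := g.2.2.2
    rw [sum_range_succ, mul_comm] at h
    omega
  ⟨⟨(g.1 (r + 1)).natDegree, Nat.lt_succ_of_le ((Nat.le_div_iff_mul_le (Nat.succ_pos r)).2 h1)⟩,
    ⟨g.1 (r + 1), (g.2.1 (r + 1)).1, (g.2.1 (r + 1)).2, rfl⟩,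
    ⟨Function.update g.1 (r + 1) 1, by
      refine ⟨fun k => ?_, fun k hk => ?_, ?_⟩
      · rcases eq_or_ne k (r + 1) with rfl | hk
        · rw [Function.update_self]; exact ⟨monic_one, by simp⟩
        · rw [Function.update_of_ne hk]; exact g.2.1 k
      · rcases eq_or_ne k (r + 1) with rfl | hk'
        · rw [Function.update_self]
        · rw [Function.update_of_ne hk']; exact g.2.2.1 k (by omega)
      · have h := g.2.2.2
        rw [sum_range_succ] at h
        have h2 : ∑ k ∈ range (r + 1), k * (Function.update g.1 (r + 1) 1 k).natDegree =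
            ∑ k ∈ range (r + 1), k * (g.1 k).natDegree := by
          refine sum_congr rfl fun k hk => ?_
          rw [Function.update_of_ne]
          have := mem_range.1 hk
          omega
        rw [h2]
        simp only
        rw [mul_comm (g.1 (r + 1)).natDegree]
        omega⟩⟩

theorem split_injective (r N : ℕ) : Function.Injective (split (F := F) r N) := by
  have key : ∀ g : X F (r + 1) N, g.1 = Function.update (split r N g).2.2.1 (r + 1) (split r N g).2.1.1 := by
    intro g
    funext k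
    rcases eq_or_ne k (r + 1) with rfl | hk
    · rw [Function.update_self]; rfl
    · rw [Function.update_of_ne hk]
      change g.1 k = Function.update g.1 (r + 1) 1 k
      rw [Function.update_of_ne hk]
  intro g h hgh
  apply Subtype.ext
  rw [key g, key h, hgh]

instance finite_X [Finite F] (r : ℕ) : ∀ N : ℕ, Finite (X F r N) := by
  induction r with
  | zero => intro N; exact ((Set.finite_singleton _).subset (X_zero_subset N)).to_subtype
  | succ r ih =>
    intro N
    have := ih
    exact Finite.of_injective _ (split_injective r N)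

theorem card_X_le [Fintype F] (r : ℕ) : ∀ N : ℕ, Nat.card (X F r N) ≤ K (Fintype.card F) r N := by
  classical
  induction r with
  | zero =>
    intro N
    rw [K]
    split_ifs with h
    · have : Nat.card (X F 0 N) ≤ Nat.card ({fun _ => 1} : Set (ℕ → F[X])) :=
        Nat.card_le_card_of_injective (Set.inclusion (X_zero_subset N)) (Set.inclusion_injective _)
      simpa using this
    · rw [X_zero_empty h]; simp
  | succ r ih =>
    intro N
    refine (Nat.card_le_card_of_injective _ (split_injective r N)).trans ?_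
    rw [Nat.card_sigma, K, ← Fin.sum_univ_eq_sum_range (fun a => w (Fintype.card F) a * K (Fintype.card F) r (N - a * (r + 1)))]
    refine sum_le_sum fun a _ => ?_
    rw [Nat.card_prod]
    exact Nat.mul_le_mul (card_P_le _) (ih _)

end Cfsg.Agent.H151.Cnt
end

-- part: H151/GLClass
section
/-! # Classes of `GL_n` and tuples of polynomials (helper151)

`dat A` is the tuple of polynomials attached to a matrix (`dat A k` is the product of the `p` such that `F[X]/(p^k)` is a
summand of the `F[X]`-module of `A`).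
-/

set_option autoImplicit false

namespace Cfsg.Agent.H151.GLC

open Polynomial Module Cfsg.Agent.H151.Prim Cfsg.Agent.H151.Cnt

universe u

variable {F : Type u} [Field F] {n : ℕ}

/-- a primary decomposition of the matrix `A` -/
noncomputable def dec (A : Matrix (Fin n) (Fin n) F) : Decomp (Matrix.toLin' A) :=
  (nonempty_decomp (Matrix.toLin' A)).some

/-- the tuple of polynomials of `A` -/
noncomputable def dat (A : Matrix (Fin n) (Fin n) F) : ℕ → F[X] := (dec A).g

theorem dat_mem_X (A : Matrix (Fin n) (Fin n) F) (hA : A.det ≠ 0) : dat A ∈ X F n n := by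
  have hfr : finrank F (Fin n → F) = n := by simp
  have hdet : LinearMap.det (Matrix.toLin' A) ≠ 0 := by rwa [LinearMap.det_toLin']
  refine ⟨fun k => ⟨(dec A).g_monic k, (dec A).g_coeff_ne hdet k⟩, ?_, ?_⟩
  · rintro k (rfl | hk)
    · exact (dec A).g_zero
    · exact (dec A).g_eq_one_of_lt (by rw [hfr]; exact hk)
  · have := (dec A).sum_g
    rw [hfr] at this
    exact this

/-- the determinant of a tuple -/
noncomputable def tdet (n : ℕ) (g : ℕ → F[X]) : F :=
  ∏ k ∈ Finset.range (n + 1), ((-1) ^ (g k).natDegree * (g k).coeff 0) ^ k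

theorem det_eq_tdet (A : Matrix (Fin n) (Fin n) F) : A.det = tdet n (dat A) := by
  have hfr : finrank F (Fin n → F) = n := by simp
  have := (dec A).det_eq_prod_g
  rw [hfr, LinearMap.det_toLin'] at this
  exact this

/-- matrices with the same tuple are conjugate -/
theorem exists_conj_of_dat_eq (A B : Matrix (Fin n) (Fin n) F) (h : dat A = dat B) :
    ∃ P : GL (Fin n) F, (P : Matrix (Fin n) (Fin n) F) * A = B * (P : Matrix (Fin n) (Fin n) F) := by
  classical
  obtain ⟨ψ, hψ⟩ := (dec A).exists_conj (dec B) (fun k => congrFun h k)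
  refine ⟨⟨LinearMap.toMatrix' ψ.toLinearMap, LinearMap.toMatrix' ψ.symm.toLinearMap, ?_, ?_⟩, ?_⟩
  · rw [← LinearMap.toMatrix'_comp]; simp
  · rw [← LinearMap.toMatrix'_comp]; simp
  · apply Matrix.toLin'.injective
    change Matrix.toLin' (LinearMap.toMatrix' ψ.toLinearMap * A) = Matrix.toLin' (B * LinearMap.toMatrix' ψ.toLinearMap)
    rw [Matrix.toLin'_mul, Matrix.toLin'_mul, Matrix.toLin'_toMatrix']
    ext1 v
    ext i
    exact congrFun (hψ _) i

/-- the centralizer of `A` contains elements of determinant `c ^ k` if `dat A k ≠ 1` -/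
theorem exists_comm_det [Finite F] (A : Matrix (Fin n) (Fin n) F) (k : ℕ) (hk : dat A k ≠ 1) (c : F) (hc : c ≠ 0) :
    ∃ Z : Matrix (Fin n) (Fin n) F, Z * A = A * Z ∧ Z.det = c ^ k := by
  classical
  obtain ⟨i, hi⟩ := (dec A).exists_of_g_ne_one hk
  obtain ⟨z, hz, hzd⟩ := (dec A).exists_comm_det_eq_pow (i := i) c hc
  refine ⟨LinearMap.toMatrix' z, ?_, ?_⟩
  · apply Matrix.toLin'.injective
    rw [Matrix.toLin'_mul, Matrix.toLin'_mul, Matrix.toLin'_toMatrix', hz]
  · rw [← LinearMap.det_toLin', Matrix.toLin'_toMatrix', hzd, hi]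

/-- the tuple of a class -/
noncomputable def classDat (c : ConjClasses (GL (Fin n) F)) : X F n n :=
  ⟨dat (Quotient.out c : GL (Fin n) F).1, dat_mem_X _ (by
    have := (Quotient.out c : GL (Fin n) F).isUnit
    exact (Matrix.isUnit_iff_isUnit_det _).1 this |>.ne_zero)⟩

theorem classDat_injective : Function.Injective (classDat (F := F) (n := n)) := by
  intro c c' h
  have h1 : dat (Quotient.out c : GL (Fin n) F).1 = dat (Quotient.out c' : GL (Fin n) F).1 :=
    congrArg Subtype.val h
  obtain ⟨P, hP⟩ := exists_conj_of_dat_eq _ _ h1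
  rw [← Quotient.out_eq c, ← Quotient.out_eq c']
  apply Quotient.sound
  change IsConj (Quotient.out c) (Quotient.out c')
  rw [isConj_iff]
  refine ⟨P, ?_⟩
  rw [mul_inv_eq_iff_eq_mul]
  exact Units.ext hP

theorem card_classes_le [Fintype F] : Nat.card (ConjClasses (GL (Fin n) F)) ≤ K (Fintype.card F) n n :=
  (Nat.card_le_card_of_injective _ classDat_injective).trans (card_X_le n n)

/-! ### Companion matrices -/

/-- a companion matrix -/
theorem exists_matrix_charpoly (f : F[X]) (hf : f.Monic) (hn : f.natDegree = n) :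
    ∃ A : Matrix (Fin n) (Fin n) F, A.charpoly = f := by
  subst hn
  refine ⟨Algebra.leftMulMatrix (AdjoinRoot.powerBasis' hf).basis (AdjoinRoot.powerBasis' hf).gen, ?_⟩
  exact (charpoly_leftMulMatrix (AdjoinRoot.powerBasis' hf)).trans
    (by rw [AdjoinRoot.powerBasis'_gen, minpoly_root_eq hf])

theorem charpoly_conj {A B P : Matrix (Fin n) (Fin n) F} (hP : IsUnit P) (h : P * A = B * P) :
    A.charpoly = B.charpoly := by
  have hPd : IsUnit P.det := (Matrix.isUnit_iff_isUnit_det _).1 hP
  have h1 : A = P⁻¹ * B * P := by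
    rw [Matrix.mul_assoc, ← h, ← Matrix.mul_assoc, Matrix.nonsing_inv_mul _ hPd, Matrix.one_mul]
  rw [h1]
  exact Matrix.charpoly_units_conj' hP.unit B

theorem card_P_le_card_classes [Fintype F] : Nat.card (P F n) ≤ Nat.card (ConjClasses (GL (Fin n) F)) := by
  classical
  have key : ∀ f : P F n, ∃ A : GL (Fin n) F, (A : Matrix (Fin n) (Fin n) F).charpoly = f.1 := by
    rintro ⟨f, hf, h0, hn⟩
    obtain ⟨A, hA⟩ := exists_matrix_charpoly f hf hn
    have hd : A.det ≠ 0 := by
      rw [Matrix.det_eq_sign_charpoly_coeff, hA]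
      exact mul_ne_zero (pow_ne_zero _ (neg_ne_zero.2 one_ne_zero)) h0
    exact ⟨Matrix.GeneralLinearGroup.mkOfDetNeZero A hd, hA⟩
  choose A hA using key
  refine Nat.card_le_card_of_injective (fun f => ConjClasses.mk (A f)) ?_
  intro f g hfg
  rw [ConjClasses.mk_eq_mk_iff_isConj, isConj_iff] at hfg
  obtain ⟨c, hc⟩ := hfg
  rw [mul_inv_eq_iff_eq_mul] at hc
  apply Subtype.ext
  rw [← hA f, ← hA g]
  exact charpoly_conj (P := c.1) c.isUnit (congrArg Units.val hc)

end Cfsg.Agent.H151.GLC
end
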